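import Mathlib
import Cfsg.Agent.Lib.M24.FiGen

/-! The kernel checks on the certificates. -/

set_option autoImplicit false
set_option maxRecDepth 1000000
set_option linter.all false

namespace Cfsg.Agent.Lib.M24

open Cfsg.Agent.Lib.OutTree36 Cfsg.Agent.Lib.Fi23K24
open Cfsg.Agent.TcData.Fi23.I31671 Cfsg.Agent.TcChain36.Out.Fi23

theorem chk0_0 : allR (chkO apF PGw T0 reps0) 12 0 = true := by decide +kernel
theorem chk0_1 : allR (chkO apF PGw T0 reps0) 12 4096 = true := by decide +kernel
theorem chk0_2 : allR (chkO apF PGw T0 reps0) 12 8192 = true := by decide +kernel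
theorem chk0_3 : allR (chkO apF PGw T0 reps0) 12 12288 = true := by decide +kernel
theorem chk0_4 : allR (chkO apF PGw T0 reps0) 12 16384 = true := by decide +kernel
theorem chk0_5 : allR (chkO apF PGw T0 reps0) 12 20480 = true := by decide +kernel
theorem chk0_6 : allR (chkO apF PGw T0 reps0) 12 24576 = true := by decide +kernel
theorem chk0_7 : allR (chkO apF PGw T0 reps0) 12 28672 = true := by decide +kernel
theorem chk0 : allR (chkO ap PGw T0 reps0) 15 0 = true := by
  rw [← apF_eq]
  refine allR_blocks (fun k hk => ?_)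
  interval_cases k
  exacts [chk0_0, chk0_1, chk0_2, chk0_3, chk0_4, chk0_5, chk0_6, chk0_7]
theorem cov0 : allR (covO T0 7) 15 0 = true := by decide +kernel
theorem cC02 : Cert.ok ap [] C02 = true := by
  rw [← apF_eq]
  decide +kernel
theorem cC03 : Cert.ok ap [] C03 = true := by
  rw [← apF_eq]
  decide +kernel
theorem cC04 : Cert.ok ap [] C04 = true := by
  rw [← apF_eq]
  decide +kernel
theorem cC05 : Cert.ok ap [] C05 = true := by
  rw [← apF_eq]
  decide +kernel
theorem cC06 : Cert.ok ap [] C06 = true := by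
  rw [← apF_eq]
  decide +kernel

/-- Inputs of the derivations and their labels. -/
theorem inp0 : (allL (fun p => Nat.blt p 31671 && Nat.beq (eLab T0 p) 2) C02.inp &&
    allL (fun p => Nat.blt p 31671 && Nat.beq (eLab T0 p) 3) C03.inp &&
    allL (fun p => Nat.blt p 31671 && Nat.beq (eLab T0 p) 4) C04.inp &&
    allL (fun p => Nat.blt p 31671 && Nat.beq (eLab T0 p) 5) C05.inp &&
    allL (fun p => Nat.blt p 31671 && Nat.beq (eLab T0 p) 6) C06.inp) = true := by decide +kernel

theorem chk6_0 : allR (chkO apF Y6 T6 reps6) 12 0 = true := by decide +kernel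
theorem chk6_1 : allR (chkO apF Y6 T6 reps6) 12 4096 = true := by decide +kernel
theorem chk6_2 : allR (chkO apF Y6 T6 reps6) 12 8192 = true := by decide +kernel
theorem chk6_3 : allR (chkO apF Y6 T6 reps6) 12 12288 = true := by decide +kernel
theorem chk6_4 : allR (chkO apF Y6 T6 reps6) 12 16384 = true := by decide +kernel
theorem chk6_5 : allR (chkO apF Y6 T6 reps6) 12 20480 = true := by decide +kernel
theorem chk6_6 : allR (chkO apF Y6 T6 reps6) 12 24576 = true := by decide +kernel
theorem chk6_7 : allR (chkO apF Y6 T6 reps6) 12 28672 = true := by decide +kernel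
theorem chk6 : allR (chkO ap Y6 T6 reps6) 15 0 = true := by
  rw [← apF_eq]
  refine allR_blocks (fun k hk => ?_)
  interval_cases k
  exacts [chk6_0, chk6_1, chk6_2, chk6_3, chk6_4, chk6_5, chk6_6, chk6_7]
theorem chk7 : allR (chkO ap [[0], [1], [2], [3], [4], [5], [8]] T7 reps7) 15 0 = true := by
  rw [← apF_eq]
  decide +kernel
theorem cov7 : allR (covO T7 16) 15 0 = true := by decide +kernel
theorem chk9 : allR (chkO ap [[0], [1], [2], [3], [4], [5], [6], [8], [9]] T9 reps9) 15 0 = true := by
  rw [← apF_eq]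
  decide +kernel
theorem cov9 : allR (covO T9 3) 15 0 = true := by decide +kernel

/-- The points of small label are in the orbit of the six transpositions. -/
noncomputable def sm6 (p : ℕ) : Bool :=
  !(Nat.blt p 31671) || !(Nat.blt (eLab T0 p) 2) || (Nat.blt (eDst T6 p) 127 && Nat.beq (eLab T6 p) 0)

theorem chkSm6 : allR sm6 15 0 = true := by decide +kernel

/-- The six transpositions keep a set of points. -/
noncomputable def kw (A : ℕ → ℕ → ℕ) (y : List ℕ) (p : ℕ) : Bool :=
  !(Nat.blt p 31671) || !(tb WM p) || tb WM (ev A y p)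

theorem chkW : allLL (fun y => allR (kw ap y) 15 0) Y6 = true := by
  rw [← apF_eq]
  decide +kernel

theorem chkW2 : (tb WM zp && !(tb WM (ev ap (PGw.getD yi []) zp)) && Nat.blt zp 31671 && Nat.blt yi 13) = true := by decide +kernel

theorem y6_inv : allLL (fun y => decide (invW iv y = y)) Y6 = true := by decide +kernel

/-- The first transposition. -/
def w60 : List ℕ := (Y6.getD 0 []).take ((Y6.getD 0 []).length / 2)

theorem w60_eq : (trW w60 = Y6.getD 0 [] ∧ reps6.getD 0 0 = ev ap w60 0) := by decide +kernel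

/-- The letters as transpositions. -/
noncomputable def chkLt (A : ℕ → ℕ → ℕ) (i : ℕ) : Bool :=
  isOne A bsL (trW (LWs.getD i []) ++ [i]) && Nat.beq (ev A (LWs.getD i []) 0) (LPs.getD i 0)

theorem chkLts : allB 10 (chkLt ap) = true := by
  rw [← apF_eq]
  decide +kernel

/-- The relations of the generators of the Sylow subgroup. -/
noncomputable def chkRel (A : ℕ → ℕ → ℕ) (m j : ℕ) : Bool :=
  allL (fun l => Nat.blt l m) ((PCrel.getD m []).getD j []) &&
    isOne A bsL (PGw.getD m [] ++ (PGw.getD j [] ++ (invW iv (PGw.getD m []) ++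
      invW iv (((PCrel.getD m []).getD j []).flatMap (fun l => PGw.getD l [])))))

theorem chkRels : allB 13 (fun m => allB m (chkRel ap m)) = true := by
  rw [← apF_eq]
  decide +kernel

/-- The cubes of the generators. -/
noncomputable def chkCube (A : ℕ → ℕ → ℕ) (m : ℕ) : Bool :=
  allL (fun l => Nat.blt l m) (PCcube.getD m []) &&
    isOne A bsL (PGw.getD m [] ++ (PGw.getD m [] ++ (PGw.getD m [] ++
      invW iv ((PCcube.getD m []).flatMap (fun l => PGw.getD l [])))))

theorem chkCubes : allB 13 (chkCube ap) = true := by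
  rw [← apF_eq]
  decide +kernel

/-- The points of a label below four. -/
noncomputable def lab4 (p : ℕ) : Bool := Nat.blt p 31671 && Nat.blt (eLab T0 p) 4

theorem cnt4 : cntR lab4 15 0 = 3240 := by decide +kernel

/-- The small labels of the seven letters. -/
noncomputable def sm7 (p : ℕ) : Bool := Nat.blt p 31671 && [0, 1, 2, 4, 5, 9, 10, 15].contains (eLab T7 p)

theorem cnt7 : cntR sm7 15 0 = 543 := by decide +kernel

/-- The third label of the nine letters. -/
noncomputable def la9 (p : ℕ) : Bool := Nat.blt p 31671 && Nat.beq (eLab T9 p) 2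

theorem cnt9 : cntR la9 15 0 = 3510 := by decide +kernel

theorem a9 : eLab T9 (LPs.getD 0 0) = 2 ∧ LPs.getD 0 0 < 31671 := by decide +kernel

/-- The points of the seven letters. -/
def E7P : List ℕ := ([0, 1, 2, 3, 4, 5, 8] : List ℕ).map (fun i => LPs.getD i 0)

theorem cC73 : Cert.ok ap E7P C73 = true := by
  rw [← apF_eq]
  decide +kernel
theorem cC76 : Cert.ok ap E7P C76 = true := by
  rw [← apF_eq]
  decide +kernel
theorem cC77 : Cert.ok ap E7P C77 = true := by
  rw [← apF_eq]
  decide +kernel
theorem cC78 : Cert.ok ap E7P C78 = true := by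
  rw [← apF_eq]
  decide +kernel
theorem cC711 : Cert.ok ap E7P C711 = true := by
  rw [← apF_eq]
  decide +kernel
theorem cC712 : Cert.ok ap E7P C712 = true := by
  rw [← apF_eq]
  decide +kernel
theorem cC713 : Cert.ok ap E7P C713 = true := by
  rw [← apF_eq]
  decide +kernel
theorem cC714 : Cert.ok ap E7P C714 = true := by
  rw [← apF_eq]
  decide +kernel

/-- The inputs have the expected label. -/
noncomputable def inpOK (c : Cert) (l : ℕ) : Bool := allL (fun p => Nat.blt p 31671 && Nat.beq (eLab T7 p) l) c.inp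

theorem inp7 : (inpOK C73 3 && inpOK C76 6 && inpOK C77 7 && inpOK C78 8 && inpOK C711 11 && inpOK C712 12 &&
    inpOK C713 13 && inpOK C714 14) = true := by decide +kernel

/-- The nine letters, moved by a word. -/
noncomputable def moved (w : List ℕ) : List ℕ := ([0, 1, 2, 3, 4, 5, 6, 8, 9] : List ℕ).map (fun j => ev ap w (LPs.getD j 0))

theorem tg7 : (C73.tgt = moved [10, 7] ∧ C76.tgt = moved [7] ∧ C77.tgt = moved [] ∧ C711.tgt = moved [10, 7] ∧
    C712.tgt = moved [7] ∧ C713.tgt = moved []) := by decide +kernel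

theorem tg0 : (C04.tgt = LPs ∧ C05.tgt = LPs ∧ C06.tgt = LPs ∧ C78.tgt = LPs ∧ C714.tgt = LPs ∧
    C02.tgt = reps0.take 4 ∧ C03.tgt = reps0.take 4) := by decide +kernel

/-- The points commuting with the seven letters. -/
noncomputable def fx7 (A : ℕ → ℕ → ℕ) (p : ℕ) : Bool :=
  !(Nat.blt p 31671) || !(allL (fun i => Nat.beq (A i p) p) [0, 1, 2, 3, 4, 5, 8]) || Nat.blt (eLab T0 p) 4

theorem chkFx7 : allR (fx7 ap) 15 0 = true := by
  rw [← apF_eq]
  decide +kernel

/-- The labels of the letters. -/
theorem labs : (allL (fun j => Nat.blt (eLab T0 (LPs.getD j 0)) 4) [1, 2, 3, 4, 5, 6, 7, 8, 9] &&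
    !(Nat.blt (eLab T0 (LPs.getD 0 0)) 4)) = true := by decide +kernel

/-- The points commuting with a point. -/
noncomputable def cm0 (A : ℕ → ℕ → ℕ) (p : ℕ) : Bool := Nat.blt p 31671 && Nat.beq (A 10 p) p

theorem cnt0 : cntR (cm0 ap) 15 0 = 3511 := by
  rw [← apF_eq]
  decide +kernel

end Cfsg.Agent.Lib.M24
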